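import Mathlib
import Cfsg.Agent.TcData.HNK.Ch.Defs

set_option autoImplicit false
set_option Elab.async false
set_option maxRecDepth 100000
set_option linter.all false

namespace Cfsg.Agent.TcData.HNK.Ch

open Cfsg.Spor Cfsg.Agent.Lib.TcFacts Cfsg.Agent.Lib.TcBits Cfsg.Agent.Lib.TcPres Cfsg.Agent.Lib.TcChain Cfsg.Spor.HN Cfsg.Agent.TcData.HNK Cfsg.Agent.TcData.HNK.V

theorem hW1 : ∀ t ∈ S2, ∀ a ∈ W t, a.1 ∈ S1 := by decide +kernel

theorem heq1 : ∀ t ∈ S2, ∀ j, j < 12 →
    wordApply (sgnProg pL) ((t, false) :: W t) (slice 12 j) = slice 12 j := by decide +kernel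

theorem hfx1 : ∀ t ∈ S2, progApply (pL t) (2 ^ 1) = 2 ^ 1 := by decide +kernel

/-- An orbit. -/
def O1 : ℕ := nat_lit 0x40000000000000001000000000020000000000000000000000002000000000000040000000000000000000000000000000000000080000000000000000040000008000000004000000000000000000000000000400100400000000000000000100002008002400000000880000011000000000000800020004000000000000000000202000000010004000000000000000000000800280100080800800000000000000004000000000401020050000001000000000000000000000000000000000000100000000000000008000000000000000008000000000000010000088000402004000000000008000200000080400000002000000080100000000000808000000000a0200020010000200c00010440000000c000000040020100000000020024000080002000000004000900400000048848200000002080000000000020800000080080000048000044240000042048000000000000000000000000004004801800020110000d10011040122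

theorem hgrow1 : growLN pL S1 5 (2 ^ 1) = O1 := by decide +kernel

theorem hc1 : sumRange O1.testBit 12 0 = 125 := by decide +kernel

theorem lv1 (h : Nat.card (Gp pL S1) ≠ 0) :
    Nat.card (Gp pL S2) ≠ 0 ∧ 125 * Nat.card (Gp pL S2) ≤ Nat.card (Gp pL S1) :=
  level_step hvp S1 S2 W hW1 heq1 hfx1 hgrow1 hc1 h

end Cfsg.Agent.TcData.HNK.Ch
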