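import Mathlib
import Cfsg.Agent.TcData.HNK.Ch.Defs

set_option autoImplicit false
set_option Elab.async false
set_option maxRecDepth 100000
set_option linter.all false

namespace Cfsg.Agent.TcData.HNK.Ch

open Cfsg.Spor Cfsg.Agent.Lib.TcFacts Cfsg.Agent.Lib.TcBits Cfsg.Agent.Lib.TcPres Cfsg.Agent.Lib.TcChain Cfsg.Spor.HN Cfsg.Agent.TcData.HNK Cfsg.Agent.TcData.HNK.V

theorem hW2 : ∀ t ∈ S3, ∀ a ∈ W t, a.1 ∈ S2 := by decide +kernel

theorem heq2 : ∀ t ∈ S3, ∀ j, j < 12 →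
    wordApply (sgnProg pL) ((t, false) :: W t) (slice 12 j) = slice 12 j := by decide +kernel

theorem hfx2 : ∀ t ∈ S3, progApply (pL t) (2 ^ 2) = 2 ^ 2 := by decide +kernel

/-- An orbit. -/
def O2 : ℕ := nat_lit 0x4800044

theorem hgrow2 : growLN pL S2 4 (2 ^ 2) = O2 := by decide +kernel

theorem hc2 : sumRange O2.testBit 12 0 = 4 := by decide +kernel

theorem lv2 (h : Nat.card (Gp pL S2) ≠ 0) :
    Nat.card (Gp pL S3) ≠ 0 ∧ 4 * Nat.card (Gp pL S3) ≤ Nat.card (Gp pL S2) :=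
  level_step hvp S2 S3 W hW2 heq2 hfx2 hgrow2 hc2 h

end Cfsg.Agent.TcData.HNK.Ch
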